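import Groth.Agent.CycDim.FibreDeg
import Groth.Prelude.Def_W4c4chowquasisplitNorm

/-!
The norm subgroup of the Chow group of a point.
-/

set_option autoImplicit false
set_option backward.isDefEq.respectTransparency false

universe u

open CategoryTheory AlgebraicGeometry

noncomputable section

namespace Groth.Agent.QsNorm

variable (k : Type u) [Field k]

/-- the point -/
abbrev pk : Scheme.{u} := Spec (CommRingCat.of k)

/-- the weight -/
abbrev wt : pk k → ℤ := fun _ => 0

theorem mem_Zk (α : AlgebraicCycle (pk k) ℤ) : α ∈ Cyc.Zk (pk k) (wt k) 0 := fun _ hx => absurd rfl hx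

theorem ratTriv_eq_bot : ChowOps.ratTriv (pk k) (wt k) 0 = ⊥ := by
  rw [ChowOps.ratTriv, AddSubgroup.closure_eq_bot_iff]
  rintro a ⟨ι, ξ, f, hξ, -, -, hsum⟩
  haveI : IsEmpty ι := ⟨fun i => by simpa [wt] using hξ i⟩
  simp only [finsum_of_isEmpty] at hsum
  rw [Set.mem_singleton_iff]
  exact Subtype.ext (Function.locallyFinsuppWithin.ext fun x => hsum x)

/-- the degree isomorphism -/
def deg : ChowOps.CH (pk k) (wt k) 0 ≃+ ℤ :=
  ((QuotientAddGroup.quotientAddEquivOfEq (ratTriv_eq_bot k)).trans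
    QuotientAddGroup.quotientBot).trans
  { toFun := fun a => a.1 default
    invFun := fun c => ⟨⟨fun _ => c, by simp, fun x _ => ⟨Set.univ, Filter.univ_mem, Set.toFinite _⟩⟩, mem_Zk k _⟩
    left_inv := fun a => Subtype.ext (Function.locallyFinsuppWithin.ext fun x => by
      show a.1 default = a.1 x
      rw [Subsingleton.elim x default])
    right_inv := fun c => rfl
    map_add' := fun a b => rfl }

theorem deg_cl (α : AlgebraicCycle (pk k) ℤ) (h : α ∈ Cyc.Zk (pk k) (wt k) 0) :
    deg k (ChowOps.cl α h) = α default := rfl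

variable (F : Type u) [Field F] [Algebra k F]

theorem residueDegree_field (z : pk F) :
    (Spec.map (CommRingCat.ofHom (algebraMap k F))).residueDegree z = Module.finrank k F := by
  set c := Spec.map (CommRingCat.ofHom (algebraMap k F)) with hc
  rw [CycFin.residueDegree_eq_finrank c z]
  letI := (WeilLib.kStr c z).toAlgebra
  let e : F ≃+* (pk F).residueField z := RingEquiv.ofBijective (WeilLib.kStr (𝟙 _) z)
    ⟨RingHom.injective _, CycFin.kStr_id_surjective z⟩
  refine (LinearEquiv.finrank_eq (AlgEquiv.ofRingEquiv (R := k) (f := e) fun a => ?_).toLinearEquiv).symm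
  show (Scheme.evaluation _ ⊤ z trivial).hom _ = (Scheme.evaluation _ ⊤ z trivial).hom _
  congr 1
  have h1 : CommRingCat.ofHom (algebraMap k F) ≫ (Scheme.ΓSpecIso (CommRingCat.of F)).inv =
      (Scheme.ΓSpecIso (CommRingCat.of k)).inv ≫ c.appTop := Scheme.ΓSpecIso_inv_naturality _
  have h2 : (𝟙 (pk F) : pk F ⟶ pk F).appLE ⊤ ⊤ le_top = 𝟙 _ :=
    (Scheme.Hom.app_eq_appLE _).symm.trans (Scheme.Hom.id_app (⊤ : (pk F).Opens))
  have h3 : c.appLE ⊤ ⊤ le_top = c.appTop := (Scheme.Hom.app_eq_appLE _).symm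
  show ((Scheme.ΓSpecIso (CommRingCat.of F)).inv ≫ (𝟙 (pk F) : pk F ⟶ pk F).appLE ⊤ ⊤ le_top).hom (algebraMap k F a) = _
  rw [h2]
  show ((CommRingCat.ofHom (algebraMap k F) ≫ (Scheme.ΓSpecIso (CommRingCat.of F)).inv).hom a) = _
  rw [h1, ← h3]
  rfl

theorem map_default (α : AlgebraicCycle (pk F) ℤ) :
    AlgebraicCycle.map (Spec.map (CommRingCat.ofHom (algebraMap k F))) (fun _ => (0 : ℤ)) (fun _ => (0 : ℤ)) α default =
      α default * (Module.finrank k F : ℤ) := by
  have hset : (Spec.map (CommRingCat.ofHom (algebraMap k F))) ⁻¹' {default} = ({default} : Set (pk F)) := by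
    ext x; simp [Subsingleton.elim x default, Subsingleton.elim ((Spec.map (CommRingCat.ofHom (algebraMap k F))) default) default]
  show (∑ᶠ x ∈ (Spec.map (CommRingCat.ofHom (algebraMap k F))) ⁻¹' {default}, _) = _
  rw [hset, finsum_mem_singleton]
  simp [AlgebraicCycle.mapCoeff, residueDegree_field]

variable (K : Type u) [Field K] [Algebra k K]

theorem map_ptNormSubgroup :
    (QsChow.ptNormSubgroup k K).map (deg k).toAddMonoidHom =
      AddSubgroup.closure {c : ℤ | ∃ F : IntermediateField k K, FiniteDimensional k F ∧ F ≠ ⊥ ∧ c = Module.finrank k F} := by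
  rw [QsChow.ptNormSubgroup, AddMonoidHom.map_closure]
  apply le_antisymm <;> rw [AddSubgroup.closure_le]
  · rintro _ ⟨_, ⟨E, hE, hb, α, h, rfl⟩, rfl⟩
    show deg k _ ∈ AddSubgroup.closure _
    rw [deg_cl, map_default, ← smul_eq_mul]
    exact AddSubgroup.zsmul_mem _ (AddSubgroup.subset_closure (k := {c : ℤ | _}) (by exact ⟨E, hE, hb, rfl⟩)) _
  · rintro c ⟨E, hE, hb, rfl⟩
    let α : AlgebraicCycle (pk E) ℤ := ⟨fun _ => 1, by simp, fun x _ => ⟨Set.univ, Filter.univ_mem, Set.toFinite _⟩⟩
    refine AddSubgroup.subset_closure ⟨_, ⟨E, hE, hb, α, mem_Zk k _, rfl⟩, ?_⟩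
    show deg k _ = _
    rw [deg_cl, map_default]
    exact one_mul _

variable {k K}

theorem exists_subfield (L : IntermediateField k K) [FiniteDimensional k L] [IsGalois k L]
    (H : Subgroup Gal(L/k)) : ∃ F : IntermediateField k K, FiniteDimensional k F ∧
      Module.finrank k F * Nat.card H = Module.finrank k L ∧ (F = ⊥ → Module.finrank k F = 1) := by
  let E := IntermediateField.fixedField H
  haveI : FiniteDimensional k (IntermediateField.lift E) :=
    LinearEquiv.finiteDimensional (IntermediateField.liftAlgEquiv E).toLinearEquiv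
  refine ⟨IntermediateField.lift E, inferInstance, ?_, fun h => by rw [h, IntermediateField.finrank_bot]⟩
  rw [← LinearEquiv.finrank_eq (IntermediateField.liftAlgEquiv E).toLinearEquiv,
    ← IntermediateField.finrank_fixedField_eq_card H, Module.finrank_mul_finrank]

theorem ptNorm_eq_top (L : IntermediateField k K) [FiniteDimensional k L] [IsGalois k L]
    (hL : ∀ p n : ℕ, p.Prime → Module.finrank k L ≠ p ^ n) : QsChow.ptNormSubgroup k K = ⊤ := by
  apply AddSubgroup.map_injective (f := (deg k).toAddMonoidHom) (deg k).injective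
  rw [map_ptNormSubgroup, AddSubgroup.map_top_of_surjective _ (deg k).surjective]
  obtain ⟨g, hg⟩ := Int.subgroup_cyclic (AddSubgroup.closure
    {c : ℤ | ∃ F : IntermediateField k K, FiniteDimensional k F ∧ F ≠ ⊥ ∧ c = Module.finrank k F})
  have hdvd : ∀ E : IntermediateField k K, FiniteDimensional k E → E ≠ ⊥ → g ∣ (Module.finrank k E : ℤ) := by
    intro E h1 h2
    have h : (Module.finrank k E : ℤ) ∈ AddSubgroup.closure ({g} : Set ℤ) := by
      rw [← hg]; exact AddSubgroup.subset_closure (k := {c : ℤ | _}) (by exact ⟨E, h1, h2, rfl⟩)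
    obtain ⟨m, hm⟩ := AddSubgroup.mem_closure_singleton.1 h
    exact ⟨m, by rw [← hm, smul_eq_mul, mul_comm]⟩
  have hd : 0 < Module.finrank k L := Module.finrank_pos
  have hLb : L ≠ ⊥ := fun h => hL 2 0 Nat.prime_two (by rw [h, IntermediateField.finrank_bot, pow_zero])
  have hg1 : g.natAbs = 1 := by
    by_contra hne
    obtain ⟨p, hp, hpg⟩ := Nat.exists_prime_and_dvd hne
    haveI := Fact.mk hp
    have hpd : p ∣ Module.finrank k L :=
      hpg.trans (by simpa using Int.natAbs_dvd_natAbs.2 (hdvd L inferInstance hLb))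
    have hcard : Nat.card Gal(L/k) = Module.finrank k L := IsGalois.card_aut_eq_finrank k L
    obtain ⟨P⟩ : Nonempty (Sylow p Gal(L/k)) := inferInstance
    obtain ⟨E, hE, hdeg, hbot⟩ := exists_subfield L (P : Subgroup Gal(L/k))
    rw [P.card_eq_multiplicity, hcard] at hdeg
    have hEb : E ≠ ⊥ := fun h => by
      rw [hbot h, one_mul] at hdeg
      exact hL p _ hp hdeg.symm
    have hpE : p ∣ Module.finrank k E :=
      hpg.trans (by simpa using Int.natAbs_dvd_natAbs.2 (hdvd E hE hEb))
    have : p ^ ((Module.finrank k L).factorization p + 1) ∣ Module.finrank k L := by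
      obtain ⟨r, hr⟩ := hpE
      exact ⟨r, by rw [pow_succ, mul_assoc, ← hr, mul_comm]; exact hdeg.symm⟩
    exact absurd this (Nat.pow_succ_factorization_not_dvd hd.ne' hp)
  rw [hg, eq_top_iff]
  intro c _
  rw [AddSubgroup.mem_closure_singleton]
  rcases Int.natAbs_eq g with h | h <;> rw [hg1] at h <;> subst h
  · exact ⟨c, by simp⟩
  · exact ⟨-c, by simp⟩

theorem ptNorm_index (L : IntermediateField k K) [FiniteDimensional k L] [IsGalois k L]
    (p n : ℕ) (hp : p.Prime) (hn : 1 ≤ n) (hL : Module.finrank k L = p ^ n)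
    (hF : ∀ F : IntermediateField k K, FiniteDimensional k F → ∃ e : ℕ, Module.finrank k F = p ^ e) :
    (QsChow.ptNormSubgroup k K).index = p := by
  haveI := Fact.mk hp
  rw [← AddSubgroup.index_map_equiv (QsChow.ptNormSubgroup k K) (deg k)]
  rw [show (QsChow.ptNormSubgroup k K).map ((deg k) : _ →+ ℤ) = AddSubgroup.zmultiples (p : ℤ) from ?_]
  · simp [Int.index_zmultiples]
  refine (map_ptNormSubgroup k K).trans (le_antisymm ?_ ?_)
  · rw [AddSubgroup.closure_le]
    rintro c ⟨E, hE, hb, rfl⟩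
    obtain ⟨e, he⟩ := hF E hE
    rcases e with _ | e
    · exact absurd (IntermediateField.finrank_eq_one_iff.1 (by simpa using he)) hb
    · rw [SetLike.mem_coe, Int.mem_zmultiples_iff, he, Nat.cast_pow, pow_succ]
      exact dvd_mul_left _ _
  · rw [AddSubgroup.zmultiples_le]
    obtain ⟨H, hH⟩ := Sylow.exists_subgroup_card_pow_prime (G := Gal(L/k)) p (n := n - 1)
      (by rw [IsGalois.card_aut_eq_finrank, hL]; exact pow_dvd_pow p (by omega))
    obtain ⟨E, hE, hdeg, hbot⟩ := exists_subfield L H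
    have hpE : Module.finrank k E = p := by
      rw [hH, hL] at hdeg
      obtain ⟨m, rfl⟩ : ∃ m, n = m + 1 := ⟨n - 1, by omega⟩
      rw [pow_succ', Nat.add_sub_cancel] at hdeg
      exact Nat.eq_of_mul_eq_mul_right (pow_pos hp.pos m) hdeg
    exact AddSubgroup.subset_closure (k := {c : ℤ | _}) (by
      exact ⟨E, hE, fun h => hp.ne_one (hpE.symm.trans (hbot h)), by rw [hpE]⟩)

end Groth.Agent.QsNorm
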